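import Groth.Agent.L21.Smooth.Scheme
import Groth.Agent.L02.SchDom.GeomFibre
import Groth.Agent.L04.SupportSh.Components
import Mathlib.AlgebraicGeometry.Geometrically.Reduced
import Mathlib.AlgebraicGeometry.Fiber

/-!
# Smooth morphisms: geometrically reduced, and connected components of fibres are irreducible
-/

set_option autoImplicit false
set_option backward.isDefEq.respectTransparency false
universe u

open CategoryTheory CategoryTheory.Limits AlgebraicGeometry TopologicalSpace

noncomputable section

namespace Groth.L16.SecComp

variable {X S : Scheme.{u}}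

/-- A scheme smooth over a field is reduced. -/
theorem isReduced_of_smooth {k : Type u} [Field k] (q : X ⟶ Spec (CommRingCat.of k)) [Smooth q] :
    IsReduced X := by
  haveI : ∀ x : X, _root_.IsReduced (X.presheaf.stalk x) := fun x => by
    haveI := Groth.L21.Smooth.isDomain_stalk q x
    infer_instance
  exact isReduced_of_isReduced_stalk X

theorem geometricallyReduced_of_smooth (f : X ⟶ S) [Smooth f] : GeometricallyReduced f := by
  refine ⟨fun K _ y Y g q sq => ?_⟩
  haveI : Smooth q := MorphismProperty.of_isPullback (P := @Smooth) sq inferInstance
  exact isReduced_of_smooth q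

/-- Connected components of a locally Noetherian scheme with domains as local rings are irreducible. -/
theorem isIrreducible_connectedComponent [IsLocallyNoetherian X]
    (h : ∀ x : X, IsDomain (X.presheaf.stalk x)) (x : X) : IsIrreducible (connectedComponent x) := by
  let U : X.Opens := ⟨connectedComponent x, Groth.L04.SupportSh.isOpen_connectedComponent x⟩
  haveI : ConnectedSpace ↥U.toScheme :=
    isConnected_iff_connectedSpace.mp isConnected_connectedComponent
  haveI : IrreducibleSpace ↥U.toScheme :=
    Groth.L02.SchDom.irreducibleSpace_of_connected fun z => by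
      haveI := h z.1
      exact (U.stalkIso z).commRingCatIsoToRingEquiv.toMulEquiv.isDomain _
  have h1 : IsIrreducible (Set.univ : Set ↥U.toScheme) := IrreducibleSpace.isIrreducible_univ _
  have h2 := h1.image (⇑U.ι) U.ι.continuous.continuousOn
  rw [Set.image_univ, Scheme.Opens.range_ι] at h2
  exact h2

/-- The connected components of the topological fibres of a smooth morphism are irreducible. -/
theorem isIrreducible_connectedComponentIn_fibre (f : X ⟶ S) [Smooth f] (p : X) :
    IsIrreducible (connectedComponentIn (f ⁻¹' {f p}) p) := by
  haveI : Smooth (f.fiberToSpecResidueField (f p)) := MorphismProperty.pullback_snd _ _ inferInstance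
  haveI : IsLocallyNoetherian (f.fiber (f p)) :=
    LocallyOfFiniteType.isLocallyNoetherian (f.fiberToSpecResidueField (f p))
  have hirr := isIrreducible_connectedComponent
    (fun z => Groth.L21.Smooth.isDomain_stalk (k := ↑(S.residueField (f p))) (f.fiberToSpecResidueField (f p)) z)
    ((f.fiberHomeo (f p)).symm ⟨p, rfl⟩)
  rw [connectedComponentIn_eq_image (show p ∈ f ⁻¹' {f p} from rfl)]
  refine IsIrreducible.image ?_ _ continuous_subtype_val.continuousOn
  have he : connectedComponent (⟨p, rfl⟩ : ↥(f ⁻¹' {f p})) =
      f.fiberHomeo (f p) '' connectedComponent ((f.fiberHomeo (f p)).symm ⟨p, rfl⟩) := by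
    refine subset_antisymm ?_ ?_
    · intro z hz
      refine ⟨(f.fiberHomeo (f p)).symm z, ?_, Homeomorph.apply_symm_apply _ _⟩
      exact (f.fiberHomeo (f p)).symm.continuous.image_connectedComponent_subset _ ⟨z, hz, rfl⟩
    · refine ((f.fiberHomeo (f p)).continuous.image_connectedComponent_subset _).trans_eq ?_
      rw [Homeomorph.apply_symm_apply]
  rw [he]
  exact hirr.image _ (f.fiberHomeo (f p)).continuous.continuousOn

end Groth.L16.SecComp
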